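import Groth.Agent.ThickAffine.Extend

/-!
A scheme receiving a surjective closed immersion from an affine scheme is affine.
-/

set_option autoImplicit false

universe u

namespace Groth.Agent.ThickAffine

open AlgebraicGeometry CategoryTheory TopologicalSpace

variable {X Z : Scheme.{u}} (t : X ⟶ Z)

theorem exists_weights (ι : Type u) [Fintype ι] (L : ℕ) :
    ∃ H : ι → MvPolynomial (ι ⊕ ι) ℤ,
      ∑ k, H k * MvPolynomial.X (Sum.inl k) ^ L - 1 ∈
        Ideal.span {∑ k, MvPolynomial.X (Sum.inr k) * MvPolynomial.X (Sum.inl k) - (1 : MvPolynomial (ι ⊕ ι) ℤ)} := by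
  let R0 := Ideal.span {∑ k, MvPolynomial.X (Sum.inr k) * MvPolynomial.X (Sum.inl k) - (1 : MvPolynomial (ι ⊕ ι) ℤ)}
  let x : ι → MvPolynomial (ι ⊕ ι) ℤ ⧸ R0 := fun k => Ideal.Quotient.mk R0 (MvPolynomial.X (Sum.inl k))
  have htop : Ideal.span (Set.range x) = ⊤ := by
    rw [Ideal.eq_top_iff_one, ← map_one (Ideal.Quotient.mk R0),
      ← Ideal.Quotient.eq.2 (Ideal.mem_span_singleton_self _), map_sum]
    refine sum_mem fun k _ => ?_
    rw [map_mul]
    exact Ideal.mul_mem_left _ _ (Ideal.subset_span ⟨k, rfl⟩)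
  have h := Ideal.span_pow_eq_top _ htop L
  rw [← Set.range_comp, Ideal.eq_top_iff_one] at h
  obtain ⟨c, hc⟩ := (Submodule.mem_span_range_iff_exists_fun _).1 h
  choose H hH using fun k => Ideal.Quotient.mk_surjective (c k)
  refine ⟨H, Ideal.Quotient.eq.1 ?_⟩
  rw [map_one, map_sum, ← hc]
  simp only [map_mul, map_pow, Function.comp_apply, smul_eq_mul, x]
  exact Finset.sum_congr rfl fun k _ => congrArg (· * _) (hH k)

theorem exists_mem_pow_eq {U V : Z.Opens} (hU : IsAffineOpen U) (f : Γ(Z, U)) (hV : V = Z.basicOpen f)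
    (h : V ≤ U) (E : Ideal Γ(Z, U)) {x : Γ(Z, V)} (hx : x ∈ E.map (rs h)) :
    ∃ (n : ℕ) (y : Γ(Z, U)), y ∈ E ∧ rs h y = rs h f ^ n * x := by
  obtain ⟨n, y, hy⟩ := exists_pow_eq hU f hV h x
  obtain ⟨m, hm⟩ := mem_of_rs_mem hU f hV h E y (by rw [hy]; exact Ideal.mul_mem_left _ _ hx)
  exact ⟨m + n, f ^ m * y, hm, by rw [map_mul, map_pow, hy, pow_add, mul_assoc]⟩

variable [IsClosedImmersion t]

theorem preimage_injective (ht : Function.Surjective t) {U V : Z.Opens} (h : t ⁻¹ᵁ U = t ⁻¹ᵁ V) : U = V :=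
  Opens.ext (ht.preimage_injective (congrArg (fun W : X.Opens => (W : Set X)) h))

/-- Global functions lift. -/
theorem appTop_surjective (ht : Function.Surjective t) {ι : Type u} [Fintype ι] (U : ι → Z.Opens)
    (hU : ∀ i, IsAffineOpen (U i)) (a : ι → Γ(X, ⊤)) (ha : ∀ i, t ⁻¹ᵁ U i = X.basicOpen (a i))
    (hspan : Ideal.span (Set.range a) = ⊤) (b : Γ(X, ⊤)) : ∃ b₀ : Γ(Z, ⊤), t.appTop b₀ = b := by
  classical
  obtain ⟨g, hg⟩ := (Submodule.mem_span_range_iff_exists_fun _).1 (hspan ▸ Submodule.mem_top : (1 : Γ(X, ⊤)) ∈ _)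
  simp only [smul_eq_mul] at hg
  let c : (ι ⊕ ι) ⊕ Unit → Γ(X, ⊤) := Sum.elim (Sum.elim a g) fun _ => b
  let ρ : ∀ V : Z.Opens, Γ(X, ⊤) →+* Γ(X, t ⁻¹ᵁ V) := fun V =>
    (X.presheaf.map (homOfLE (le_top : t ⁻¹ᵁ V ≤ ⊤)).op).hom
  have hρ : ∀ {V W : Z.Opens} (h : W ≤ V) (s : Γ(Z, V)) (x : Γ(X, ⊤)), t.app V s = ρ V x →
      t.app W (rs h s) = ρ W x := by
    intro V W h s x hs
    rw [app_rs, hs]
    show (X.presheaf.map _ ≫ X.presheaf.map _).hom x = _
    rw [← Functor.map_comp]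
    rfl
  choose L hL using fun i q => t.app_surjective (U i) (hU i) (ρ (U i) (c q))
  let α : ∀ i, ι → Γ(Z, U i) := fun i k => L i (Sum.inl (Sum.inl k))
  have hf : ∀ i j, U i ⊓ U j = Z.basicOpen (α i j) := fun i j => preimage_injective t ht (by
    rw [Scheme.preimage_basicOpen, show t.app (U i) (α i j) = ρ (U i) (a j) from hL i _]
    show t ⁻¹ᵁ U i ⊓ t ⁻¹ᵁ U j = X.basicOpen (X.presheaf.map _ (a j))
    rw [Scheme.basicOpen_res, ← ha j])
  have hdK : ∀ i j q, rs (inf_le_left : U i ⊓ U j ≤ U i) (L i q) - rs (inf_le_right : U i ⊓ U j ≤ U j) (L j q) ∈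
      K t (U i ⊓ U j) := by
    intro i j q
    rw [RingHom.mem_ker, map_sub, sub_eq_zero]
    exact (hρ _ _ _ (hL i q)).trans (hρ _ _ _ (hL j q)).symm
  choose N s hsK hs using fun i j q => K_exists_pow_eq t (hU i) (α i j) (hf i j) inf_le_left (hdK i j q)
  let e : ∀ i, Γ(Z, U i) := fun i => ∑ k, L i (Sum.inl (Sum.inr k)) * α i k - 1
  have heK : ∀ i, e i ∈ K t (U i) := fun i => by
    rw [RingHom.mem_ker, map_sub, map_sum, map_one, sub_eq_zero]
    simp only [map_mul, α, hL]
    simp only [c, Sum.elim_inl, Sum.elim_inr]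
    rw [← map_one (ρ (U i)), ← hg, map_sum]
    simp [map_mul]
  let D : ∀ i, Finset Γ(Z, U i) := fun i =>
    insert (e i) (Finset.univ.image fun p : ι × ((ι ⊕ ι) ⊕ Unit) => s i p.1 p.2)
  choose F hF1 hF2 hF3 using fun i => exists_family t U hU α hf i (D i) (by
    intro d hd
    simp only [D, Finset.mem_insert, Finset.mem_image, Finset.mem_univ, true_and] at hd
    rcases hd with rfl | ⟨p, rfl⟩
    exacts [heK i, hsK i p.1 p.2])
  let E : ∀ l, Ideal Γ(Z, U l) := fun l => ⨆ i, F i l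
  have hEfg : ∀ l, (E l).FG := fun l => Submodule.fg_iSup _ fun i => (hF1 i l).1
  have hEK : ∀ l, E l ≤ K t (U l) := fun l => iSup_le fun i => (hF1 i l).2
  have hagree : ∀ i j, (E i).map (rs (inf_le_left : U i ⊓ U j ≤ U i)) =
      (E j).map (rs (inf_le_right : U i ⊓ U j ≤ U j)) := fun i j => by
    rw [Ideal.map_iSup, Ideal.map_iSup]
    exact iSup_congr fun l => hF2 l i j
  let E2 : ∀ i j, Ideal Γ(Z, U i ⊓ U j) := fun i j => (E i).map (rs inf_le_left)
  have hDE : ∀ i j q, rs (inf_le_left : U i ⊓ U j ≤ U i) (L i q) -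
      rs (inf_le_right : U i ⊓ U j ≤ U j) (L j q) ∈ E2 i j := fun i j q => by
    have h : rs (inf_le_left : U i ⊓ U j ≤ U i) (s i j q) ∈ E2 i j := Ideal.mem_map_of_mem _
      (le_iSup (fun l => F l i) i (hF3 i _ (Finset.mem_insert_of_mem
        (Finset.mem_image.2 ⟨(j, q), Finset.mem_univ _, rfl⟩))))
    rw [hs] at h
    exact ((Ideal.unit_mul_mem_iff_mem _ ((isUnit_rs (α i j) (hf i j) inf_le_left).pow _)).1 h)
  have heE : ∀ i, e i ∈ E i := fun i => le_iSup (fun l => F l i) i (hF3 i _ (Finset.mem_insert_self _ _))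
  have haff : ∀ i j, IsAffineOpen (U i ⊓ U j) := fun i j => by rw [hf]; exact (hU i).basicOpen _
  have claim : ∀ n : ℕ, ∃ v : ∀ i, Γ(Z, U i), (∀ i, t.app (U i) (v i) = ρ (U i) b) ∧
      ∀ i j, rs (inf_le_left : U i ⊓ U j ≤ U i) (v i) - rs (inf_le_right : U i ⊓ U j ≤ U j) (v j) ∈
        E2 i j ^ (n + 1) := by
    intro n
    induction n with
    | zero =>
      exact ⟨fun i => L i (Sum.inr ()), fun i => hL i _, fun i j => by rw [pow_one]; exact hDE i j _⟩
    | succ n ih =>
      obtain ⟨v, hv, hvd⟩ := ih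
      let d : ∀ i j, Γ(Z, U i ⊓ U j) := fun i j =>
        rs inf_le_left (v i) - rs inf_le_right (v j)
      have hd : ∀ i k, d i k ∈ (E i ^ (n + 1)).map (rs inf_le_left) := fun i k => by
        rw [Ideal.map_pow]; exact hvd i k
      choose N0 s0 hs0E hs0 using fun i k => exists_mem_pow_eq (hU i) (α i k) (hf i k) inf_le_left _ (hd i k)
      let N' := Finset.univ.sup fun p : ι × ι => N0 p.1 p.2
      let w : ∀ i, ι → Γ(Z, U i) := fun i k => α i k ^ (N' - N0 i k) * s0 i k
      have hwE : ∀ i k, w i k ∈ E i ^ (n + 1) := fun i k => Ideal.mul_mem_left _ _ (hs0E i k)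
      have hw : ∀ i k, rs (inf_le_left : U i ⊓ U k ≤ U i) (w i k) = rs inf_le_left (α i k) ^ N' * d i k :=
        fun i k => exists_ge (α i k) inf_le_left
          (Finset.le_sup (f := fun p : ι × ι => N0 p.1 p.2) (Finset.mem_univ (i, k))) (hs0 i k)
      have hx : ∀ i j k, ∃ m : ℕ, rs (inf_le_left : U i ⊓ U j ≤ U i) (α i k) ^ m *
          (rs inf_le_left (w i k) - rs inf_le_right (w j k) - rs inf_le_left (α i k) ^ N' * d i j) ∈
            E2 i j ^ (n + 2) := by
        intro i j k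
        refine mem_of_rs_mem (V := U i ⊓ U j ⊓ U k) (haff i j) (rs inf_le_left (α i k))
          (inter3 U α hf i j k) inf_le_left _ _ ?_
        have hle1 : U i ⊓ U j ⊓ U k ≤ U i ⊓ U k := le_inf (inf_le_left.trans inf_le_left) inf_le_right
        have hle2 : U i ⊓ U j ⊓ U k ≤ U j ⊓ U k := le_inf (inf_le_left.trans inf_le_right) inf_le_right
        have hi' := congrArg (rs hle1) (hw i k)
        have hj' := congrArg (rs hle2) (hw j k)
        simp only [d, map_sub, map_mul, map_pow, rs_rs] at hi' hj'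
        simp only [d, map_sub, map_mul, map_pow, rs_rs]
        rw [hi', hj', Ideal.map_pow, map_rs_rs]
        set A := rs (inf_le_left.trans inf_le_left : U i ⊓ U j ⊓ U k ≤ U i) (α i k)
        set B := rs (inf_le_left.trans inf_le_right : U i ⊓ U j ⊓ U k ≤ U j) (α j k)
        have h1 : A - B ∈ (E i).map (rs (inf_le_left.trans inf_le_left : U i ⊓ U j ⊓ U k ≤ U i)) := by
          have := Ideal.mem_map_of_mem (rs (inf_le_left : U i ⊓ U j ⊓ U k ≤ U i ⊓ U j)) (hDE i j (Sum.inl (Sum.inl k)))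
          simp only [E2, map_sub, rs_rs, map_rs_rs] at this
          exact this
        have h2 : rs hle2 (d j k) ∈ (E i).map (rs (inf_le_left.trans inf_le_left : U i ⊓ U j ⊓ U k ≤ U i)) ^ (n + 1) := by
          have := Ideal.mem_map_of_mem (rs hle2) (hd j k)
          rw [map_rs_rs] at this
          have e' := congrArg (Ideal.map (rs (inf_le_left : U i ⊓ U j ⊓ U k ≤ U i ⊓ U j))) (hagree i j)
          rw [map_rs_rs, map_rs_rs] at e'
          rw [e', ← Ideal.map_pow]
          exact this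
        simp only [d, map_sub, rs_rs] at h2
        rw [pow_succ']
        rw [show ∀ p q r : Γ(Z, U i ⊓ U j ⊓ U k), A ^ N' * (p - r) - B ^ N' * (q - r) - A ^ N' * (p - q) =
          (A ^ N' - B ^ N') * (q - r) by intro p q r; ring]
        refine Ideal.mul_mem_mul ?_ h2
        obtain ⟨z, hz⟩ := sub_dvd_pow_sub_pow A B N'
        rw [hz]
        exact Ideal.mul_mem_right _ _ h1
      choose M0 hM0 using hx
      let M := Finset.univ.sup fun p : ι × ι × ι => M0 p.1 p.2.1 p.2.2
      obtain ⟨H, hH⟩ := exists_weights ι (M + N')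
      let φ : ∀ i, MvPolynomial (ι ⊕ ι) ℤ →+* Γ(Z, U i) := fun i =>
        MvPolynomial.eval₂Hom (Int.castRingHom _) fun p => L i (Sum.inl p)
      have hφe : ∀ i, φ i (∑ k, H k * MvPolynomial.X (Sum.inl k) ^ (M + N') - 1) ∈ E i := fun i => by
        have := Ideal.mem_map_of_mem (φ i) hH
        rw [Ideal.map_span, Set.image_singleton] at this
        refine (Ideal.span_singleton_le_iff_mem _).2 ?_ this
        have h : φ i (∑ k, MvPolynomial.X (Sum.inr k) * MvPolynomial.X (Sum.inl k) - 1) = e i := by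
          simp [φ, e, α, map_sum]
        rw [h]; exact heE i
      have hφd : ∀ i j P, rs (inf_le_left : U i ⊓ U j ≤ U i) (φ i P) - rs inf_le_right (φ j P) ∈ E2 i j := by
        intro i j P
        have h : (Ideal.Quotient.mk (E2 i j)).comp ((rs (inf_le_left : U i ⊓ U j ≤ U i)).comp (φ i)) =
            (Ideal.Quotient.mk (E2 i j)).comp ((rs (inf_le_right : U i ⊓ U j ≤ U j)).comp (φ j)) := by
          refine MvPolynomial.ringHom_ext (fun r => by simp [φ]) fun p => ?_
          simpa [φ] using Ideal.Quotient.eq.2 (hDE i j (Sum.inl p))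
        exact Ideal.Quotient.eq.1 (RingHom.congr_fun h P)
      let cc : ∀ i, Γ(Z, U i) := fun i => ∑ k, φ i (H k * MvPolynomial.X (Sum.inl k) ^ M) * w i k
      have hccE : ∀ i, cc i ∈ E i ^ (n + 1) := fun i => sum_mem fun k _ => Ideal.mul_mem_left _ _ (hwE i k)
      refine ⟨fun i => v i - cc i, fun i => ?_, fun i j => ?_⟩
      · rw [map_sub, hv, RingHom.mem_ker.1 (hEK i (Ideal.pow_le_self (Nat.succ_ne_zero n) (hccE i))), sub_zero]
      · rw [map_sub, map_sub]
        set P := rs (inf_le_left : U i ⊓ U j ≤ U i)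
        set Q := rs (inf_le_right : U i ⊓ U j ≤ U j)
        rw [show P (v i) - P (cc i) - (Q (v j) - Q (cc j)) = (d i j) - (P (cc i) - Q (cc j)) by
          simp only [d, P, Q]; ring]
        have key : ∀ k, P (φ i (H k * MvPolynomial.X (Sum.inl k) ^ M) * w i k) -
            Q (φ j (H k * MvPolynomial.X (Sum.inl k) ^ M) * w j k) -
            P (φ i (H k * MvPolynomial.X (Sum.inl k) ^ (M + N'))) * d i j ∈ E2 i j ^ (n + 2) := by
          intro k
          set G := P (φ i (H k * MvPolynomial.X (Sum.inl k) ^ M))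
          set G' := Q (φ j (H k * MvPolynomial.X (Sum.inl k) ^ M))
          have hG : P (φ i (H k * MvPolynomial.X (Sum.inl k) ^ (M + N'))) = G * P (α i k) ^ N' := by
            simp only [G, pow_add, ← mul_assoc, map_mul, map_pow]
            simp [φ, α]
          rw [map_mul P (φ i _) (w i k), map_mul Q (φ j _) (w j k), hG, show G * P (w i k) - G' * Q (w j k) - G * P (α i k) ^ N' * d i j =
            G * (P (w i k) - Q (w j k) - P (α i k) ^ N' * d i j) + (G - G') * Q (w j k) by ring]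
          refine add_mem ?_ ?_
          · have hm := hM0 i j k
            have hle : M0 i j k ≤ M :=
              Finset.le_sup (f := fun p : ι × ι × ι => M0 p.1 p.2.1 p.2.2) (Finset.mem_univ (i, j, k))
            have hG2 : G = P (φ i (H k)) * P (α i k) ^ (M - M0 i j k) * P (α i k) ^ (M0 i j k) := by
              rw [mul_assoc, ← pow_add, Nat.sub_add_cancel hle]
              simp [G, φ, α]
            rw [hG2, mul_assoc]
            exact Ideal.mul_mem_left _ _ hm
          · rw [pow_succ']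
            refine Ideal.mul_mem_mul (hφd i j _) ?_
            show _ ∈ ((E i).map _) ^ _
            rw [hagree i j, ← Ideal.map_pow]
            exact Ideal.mem_map_of_mem _ (hwE j k)
        have h1 : P (cc i) - Q (cc j) - P (φ i (∑ k, H k * MvPolynomial.X (Sum.inl k) ^ (M + N'))) * d i j ∈
            E2 i j ^ (n + 2) := by
          simp only [cc, map_sum, Finset.sum_mul, ← Finset.sum_sub_distrib]
          exact sum_mem fun k _ => key k
        have h2 : (P (φ i (∑ k, H k * MvPolynomial.X (Sum.inl k) ^ (M + N') - 1))) * d i j ∈ E2 i j ^ (n + 2) := by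
          rw [pow_succ']
          exact Ideal.mul_mem_mul (Ideal.mem_map_of_mem _ (hφe i)) (hvd i j)
        have h3 := add_mem h1 h2
        rw [map_sub, map_one, map_sub, map_one] at h3
        rw [← neg_sub (P (cc i) - Q (cc j)) (d i j)]
        refine neg_mem ?_
        convert h3 using 1
        ring
  have hnil : ∀ l, ∃ m : ℕ, E l ^ m = ⊥ := fun l => (Ideal.FG.isNilpotent_iff_le_nilradical (hEfg l)).2
    fun x hx => isNilpotent_of_mem_K t ht (hU l) (hEK l hx)
  choose m hm using hnil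
  obtain ⟨v, hv, hvd⟩ := claim (Finset.univ.sup m)
  have hcompat : TopCat.Presheaf.IsCompatible Z.sheaf.1 U v := fun i j => by
    refine sub_eq_zero.1 ?_
    have h : E2 i j ^ (Finset.univ.sup m + 1) = ⊥ := by
      rw [← Ideal.map_pow, eq_bot_iff, Ideal.map_le_iff_le_comap]
      exact ((Ideal.pow_le_pow_right (le_trans (Finset.le_sup (Finset.mem_univ i)) (Nat.le_succ _))).trans
        (hm i).le).trans bot_le
    exact (h.le (hvd i j) : _ ∈ (⊥ : Ideal _))
  have hcover : (⊤ : Z.Opens) ≤ ⨆ i, U i := by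
    intro z _
    obtain ⟨x, rfl⟩ := ht z
    have hx : x ∈ ⨆ i ∈ Set.range a, X.basicOpen i := by
      rw [iSup_basicOpen_of_span_eq_top _ _ hspan]; trivial
    simp only [Opens.mem_iSup] at hx
    obtain ⟨_, ⟨i, rfl⟩, hi⟩ := hx
    rw [← ha i] at hi
    exact Opens.mem_iSup.2 ⟨i, hi⟩
  obtain ⟨b₀, hb₀, -⟩ := Z.sheaf.existsUnique_gluing' U ⊤ (fun i => homOfLE le_top) hcover v hcompat
  refine ⟨b₀, X.sheaf.eq_of_locally_eq' (fun i => t ⁻¹ᵁ U i) ⊤ (fun i => homOfLE le_top) ?_ _ _ fun i => ?_⟩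
  · intro x _
    obtain ⟨i, hi⟩ := Opens.mem_iSup.1 (hcover (Opens.mem_top (t x)))
    exact Opens.mem_iSup.2 ⟨i, hi⟩
  · show _ = ρ (U i) b
    rw [← hv i, ← hb₀ i]
    exact (app_rs t (le_top : U i ≤ ⊤) b₀).symm

/-- A scheme receiving a surjective closed immersion from an affine scheme is affine. -/
theorem isAffine_of_surjective (ht : Function.Surjective t) [IsAffine X] : IsAffine Z := by
  classical
  have hloc : ∀ x : X, ∃ (a : Γ(X, ⊤)) (V : Z.Opens), IsAffineOpen V ∧ t ⁻¹ᵁ V = X.basicOpen a ∧ x ∈ X.basicOpen a := by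
    intro x
    obtain ⟨V, hV, hxV, -⟩ := exists_isAffineOpen_mem_and_subset (U := (⊤ : Z.Opens)) (x := t x) trivial
    obtain ⟨a, haV, hxa⟩ := (isAffineOpen_top X).exists_basicOpen_le (V := t ⁻¹ᵁ V) ⟨x, hxV⟩ trivial
    obtain ⟨f, hf⟩ := t.app_surjective V hV (X.presheaf.map (homOfLE (le_top : t ⁻¹ᵁ V ≤ ⊤)).op a)
    refine ⟨a, Z.basicOpen f, hV.basicOpen f, ?_, hxa⟩
    rw [Scheme.preimage_basicOpen, hf, Scheme.basicOpen_res, inf_eq_right.2 haV]
  choose a0 V0 hV0 ha0 hx0 using hloc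
  obtain ⟨S, hS⟩ := CompactSpace.elim_nhds_subcover (fun x => (X.basicOpen (a0 x) : Set X))
    fun x => (X.basicOpen (a0 x)).isOpen.mem_nhds (hx0 x)
  let a : S → Γ(X, ⊤) := fun x => a0 x
  have hspan : Ideal.span (Set.range a) = ⊤ := by
    rw [← (isAffineOpen_top X).iSup_basicOpen_eq_self_iff]
    refine top_le_iff.1 fun x _ => ?_
    obtain ⟨y, hy, hxy⟩ := Set.mem_iUnion₂.1 (hS.ge (Set.mem_univ x))
    exact Opens.mem_iSup.2 ⟨⟨_, ⟨⟨y, hy⟩, rfl⟩⟩, hxy⟩
  have hlift := appTop_surjective t ht (fun x : S => V0 x) (fun x => hV0 x) a (fun x => ha0 x) hspan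
  choose A hA using fun x : S => hlift (a x)
  obtain ⟨g, hg⟩ := (Submodule.mem_span_range_iff_exists_fun _).1 (hspan ▸ Submodule.mem_top : (1 : Γ(X, ⊤)) ∈ _)
  choose G hG using fun x : S => hlift (g x)
  have hpre : ∀ x : S, Z.basicOpen (A x) = V0 x := fun x => preimage_injective t ht (by
    rw [Scheme.preimage_basicOpen, ha0]
    exact congrArg _ (hA x))
  refine isAffine_of_isAffineOpen_basicOpen (Set.range A) ?_ ?_
  · have hunit : IsUnit (∑ x, G x * A x) := by
      have htop : Z.basicOpen (∑ x, G x * A x) = ⊤ := preimage_injective t ht (by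
        rw [Scheme.preimage_basicOpen]
        have : t.appTop (∑ x, G x * A x) = 1 := by
          rw [map_sum, ← hg]
          simp [map_mul, hA, hG]
        erw [this]
        exact (Scheme.basicOpen_of_isUnit X isUnit_one).trans rfl)
      have h := RingedSpace.isUnit_res_basicOpen Z.toRingedSpace (∑ x, G x * A x)
      exact Z.toRingedSpace.isUnit_of_isUnit_germ ⊤ _ fun z hz =>
        (Z.toRingedSpace.mem_basicOpen _ z hz).1 (htop.ge trivial)
    exact Ideal.eq_top_of_isUnit_mem _ (sum_mem fun x _ => Ideal.mul_mem_left _ _ (Ideal.subset_span ⟨x, rfl⟩)) hunit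
  · rintro _ ⟨x, rfl⟩
    rw [hpre]
    exact hV0 x

end Groth.Agent.ThickAffine
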