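import Groth.Agent.ThickAffine.Local

/-!
Extending finitely many nilpotent sections to a finitely generated nilpotent ideal family.
-/

set_option autoImplicit false

universe u

namespace Groth.Agent.ThickAffine

open AlgebraicGeometry CategoryTheory TopologicalSpace

variable {X Z : Scheme.{u}} (t : X ⟶ Z)

/-- Two ideals agree on the overlap. -/
def Agree {ι : Type*} {U : ι → Z.Opens} (i j : ι) (I : Ideal Γ(Z, U i)) (J : Ideal Γ(Z, U j)) : Prop :=
  I.map (rs (inf_le_left : U i ⊓ U j ≤ U i)) = J.map (rs (inf_le_right : U i ⊓ U j ≤ U j))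

theorem map_rs_rs {U V W : Z.Opens} (h : V ≤ U) (h' : W ≤ V) (I : Ideal Γ(Z, U)) :
    (I.map (rs h)).map (rs h') = I.map (rs (h'.trans h)) := by
  rw [Ideal.map_map]
  congr 1
  exact RingHom.ext fun x => rs_rs h h' x

theorem Agree.symm {ι : Type*} {U : ι → Z.Opens} {i j : ι} {I : Ideal Γ(Z, U i)} {J : Ideal Γ(Z, U j)}
    (h : Agree i j I J) : Agree j i J I := by
  have h' := congrArg (Ideal.map (rs (show U j ⊓ U i ≤ U i ⊓ U j by rw [inf_comm]))) h
  rw [map_rs_rs, map_rs_rs] at h'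
  exact h'.symm

variable [IsClosedImmersion t] {ι : Type u} [Fintype ι] (U : ι → Z.Opens)
  (hU : ∀ i, IsAffineOpen (U i)) (f : ∀ i, ι → Γ(Z, U i))
  (hf : ∀ i j, U i ⊓ U j = Z.basicOpen (f i j))

theorem inter3 (hf : ∀ i j, U i ⊓ U j = Z.basicOpen (f i j)) (i j k : ι) :
    U i ⊓ U j ⊓ U k = Z.basicOpen (rs (inf_le_left : U i ⊓ U j ≤ U i) (f i k)) := by
  rw [Scheme.basicOpen_res, ← hf, inf_assoc, inf_assoc, inf_left_comm (U j) (U i),
    ← inf_assoc (U i) (U i), inf_idem]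

include hU hf in
/-- One more chart. -/
theorem exists_step (S : Finset ι) (E : ∀ i, Ideal Γ(Z, U i)) (m : ι)
    (hfg : ∀ i ∈ S, (E i).FG) (hK : ∀ i ∈ S, E i ≤ K t (U i))
    (hc : ∀ i ∈ S, ∀ j ∈ S, Agree i j (E i) (E j)) :
    ∃ F : Ideal Γ(Z, U m), F.FG ∧ F ≤ K t (U m) ∧ ∀ i ∈ S, Agree i m (E i) F := by
  classical
  have haff : ∀ i j, IsAffineOpen (U i ⊓ U j) := fun i j => by rw [hf]; exact (hU i).basicOpen _
  let J : Ideal Γ(Z, U m) := K t (U m) ⊓ ⨅ i : S,
    ((E i).map (rs (inf_le_right : U m ⊓ U i ≤ U i))).comap (rs (inf_le_left : U m ⊓ U i ≤ U m))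
  have hgen : ∀ i ∈ S, ∀ x ∈ (E i).map (rs (inf_le_right : U m ⊓ U i ≤ U i)),
      ∃ (N : ℕ) (y : Γ(Z, U m)), y ∈ J ∧
        rs (inf_le_left : U m ⊓ U i ≤ U m) y = rs inf_le_left (f m i) ^ N * x := by
    intro i hi x hx
    have hxK : x ∈ K t (U m ⊓ U i) := by
      refine (Ideal.map_le_iff_le_comap.2 fun z hz => ?_) hx
      exact rs_mem_K t _ (hK i hi hz)
    obtain ⟨n, e, heK, he⟩ := K_exists_pow_eq t (hU m) (f m i) (hf m i) inf_le_left hxK
    have key : ∀ j : S, ∃ N, rs (inf_le_left : U m ⊓ U j.1 ≤ U m) (f m i) ^ N * rs inf_le_left e ∈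
        (E j).map (rs (inf_le_right : U m ⊓ U j.1 ≤ U j.1)) := by
      intro j
      refine mem_of_rs_mem (V := U m ⊓ U j.1 ⊓ U i) (haff m j) (rs inf_le_left (f m i))
        (inter3 U f hf m j i) inf_le_left _ _ ?_
      rw [rs_rs, map_rs_rs]
      have h1 : rs (inf_le_left.trans inf_le_left : U m ⊓ U j.1 ⊓ U i ≤ U m) e ∈
          (E i).map (rs (inf_le_right : U m ⊓ U j.1 ⊓ U i ≤ U i)) := by
        have := Ideal.mem_map_of_mem (rs (show U m ⊓ U j.1 ⊓ U i ≤ U m ⊓ U i from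
          le_inf (inf_le_left.trans inf_le_left) inf_le_right)) (Ideal.mul_mem_left _
            (rs (inf_le_left : U m ⊓ U i ≤ U m) (f m i) ^ n) hx)
        rw [← he, rs_rs, map_rs_rs] at this
        exact this
      have h2 := congrArg (Ideal.map (rs (show U m ⊓ U j.1 ⊓ U i ≤ U j.1 ⊓ U i from
          le_inf (inf_le_left.trans inf_le_right) inf_le_right))) (hc j j.2 i hi)
      rw [map_rs_rs, map_rs_rs] at h2
      rw [h2]
      exact h1
    choose N hN using key
    refine ⟨(Finset.univ.sup N) + n, f m i ^ (Finset.univ.sup N) * e, ⟨Ideal.mul_mem_left _ _ heK, ?_⟩, ?_⟩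
    · refine Ideal.mem_iInf.2 fun j => ?_
      rw [Ideal.mem_comap, map_mul, map_pow,
        ← Nat.sub_add_cancel (Finset.le_sup (f := N) (Finset.mem_univ j)), pow_add, mul_assoc]
      exact Ideal.mul_mem_left _ _ (hN j)
    · rw [map_mul, map_pow, he, pow_add, mul_assoc]
  have hfg' : ∀ i : S, ∃ T : Finset Γ(Z, U m ⊓ U i.1), Ideal.span (↑T : Set Γ(Z, U m ⊓ U i.1)) = (E i).map (rs (inf_le_right : U m ⊓ U i.1 ≤ U i.1)) :=
    fun i => (hfg i i.2).map (rs (inf_le_right : U m ⊓ U i.1 ≤ U i.1))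
  choose T hT using hfg'
  choose Nn y hyJ hy using fun (p : Σ i : S, T i) => hgen p.1 p.1.2 p.2.1
    ((hT p.1).le (Ideal.subset_span p.2.2))
  refine ⟨Ideal.span (Set.range y), Submodule.fg_span (Set.finite_range y),
    Ideal.span_le.2 (by rintro _ ⟨p, rfl⟩; exact (hyJ p).1), fun i hi => Agree.symm ?_⟩
  refine le_antisymm (Ideal.map_le_iff_le_comap.2 (Ideal.span_le.2 ?_)) ?_
  · rintro _ ⟨p, rfl⟩
    exact (Ideal.mem_iInf.1 (hyJ p).2) ⟨i, hi⟩
  · refine (hT ⟨i, hi⟩).ge.trans (Ideal.span_le.2 fun x hx => ?_)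
    have hmem : rs (inf_le_left : U m ⊓ U i ≤ U m) (y ⟨⟨i, hi⟩, x, hx⟩) ∈
        (Ideal.span (Set.range y)).map (rs inf_le_left) :=
      Ideal.mem_map_of_mem _ (Ideal.subset_span ⟨_, rfl⟩)
    rw [show rs (inf_le_left : U m ⊓ U i ≤ U m) (y ⟨⟨i, hi⟩, x, hx⟩) = _ from hy ⟨⟨i, hi⟩, x, hx⟩] at hmem
    exact ((Ideal.unit_mul_mem_iff_mem _ ((isUnit_rs (f m i) (hf m i) inf_le_left).pow _)).1 hmem)

include hU hf in
/-- Finitely many sections in a compatible finitely generated family inside the kernel. -/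
theorem exists_family (l : ι) (D : Finset Γ(Z, U l)) (hD : ∀ d ∈ D, d ∈ K t (U l)) :
    ∃ E : ∀ i, Ideal Γ(Z, U i), (∀ i, (E i).FG ∧ E i ≤ K t (U i)) ∧
      (∀ i j, Agree i j (E i) (E j)) ∧ ∀ d ∈ D, d ∈ E l := by
  classical
  suffices h : ∀ S : Finset ι, ∃ E : ∀ i, Ideal Γ(Z, U i),
      (∀ i ∈ insert l S, (E i).FG ∧ E i ≤ K t (U i)) ∧
      (∀ i ∈ insert l S, ∀ j ∈ insert l S, Agree i j (E i) (E j)) ∧ ∀ d ∈ D, d ∈ E l by
    obtain ⟨E, h1, h2, h3⟩ := h Finset.univ
    exact ⟨E, fun i => h1 i (by simp), fun i j => h2 i (by simp) j (by simp), h3⟩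
  intro S
  induction S using Finset.induction with
  | empty =>
    refine ⟨Function.update (fun i => ⊥) l (Ideal.span (D : Set _)), fun i hi => ?_, fun i hi j hj => ?_, fun d hd => ?_⟩
    · obtain rfl : i = l := by simpa using hi
      rw [Function.update_self]
      exact ⟨⟨D, rfl⟩, Ideal.span_le.2 hD⟩
    · obtain rfl : i = l := by simpa using hi
      obtain rfl : j = i := by simpa using hj
      rfl
    · rw [Function.update_self]; exact Ideal.subset_span hd
  | @insert m S hm ih =>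
    obtain ⟨E, h1, h2, h3⟩ := ih
    by_cases hml : m ∈ insert l S
    · rw [show insert l (insert m S) = insert l S by
        rw [Finset.insert_comm, Finset.insert_eq_of_mem hml]]
      exact ⟨E, h1, h2, h3⟩
    obtain ⟨F, hFfg, hFK, hF⟩ := exists_step t U hU f hf (insert l S) E m
      (fun i hi => (h1 i hi).1) (fun i hi => (h1 i hi).2) h2
    have hne : ∀ i ∈ insert l S, Function.update E m F i = E i := fun i hi =>
      Function.update_of_ne (fun e => hml (by rw [← e]; exact hi)) _ _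
    have hsplit : ∀ i ∈ insert l (insert m S), i = m ∨ i ∈ insert l S := fun i hi => by
      simp only [Finset.mem_insert] at hi ⊢; tauto
    refine ⟨Function.update E m F, fun i hi => ?_, fun i hi j hj => ?_,
      fun d hd => by rw [hne l (by simp)]; exact h3 d hd⟩
    · rcases hsplit i hi with rfl | hi
      · rw [Function.update_self]; exact ⟨hFfg, hFK⟩
      · rw [hne i hi]; exact h1 i hi
    · rcases hsplit i hi with hi' | hi' <;> rcases hsplit j hj with hj' | hj'
      · subst hi'; subst hj'; rfl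
      · subst hi'; rw [hne j hj', Function.update_self]; exact (hF j hj').symm
      · subst hj'; rw [hne i hi', Function.update_self]; exact hF i hi'
      · rw [hne i hi', hne j hj']; exact h2 i hi' j hj'

end Groth.Agent.ThickAffine
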