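import Mathlib

/-!
Sections along a surjective closed immersion: nilpotent kernels, localisation on affine opens.
-/

set_option autoImplicit false

universe u

namespace Groth.Agent.ThickAffine

open AlgebraicGeometry CategoryTheory TopologicalSpace

variable {X Z : Scheme.{u}} (t : X ⟶ Z)

/-- Restriction of sections. -/
noncomputable abbrev rs {U V : Z.Opens} (h : V ≤ U) : Γ(Z, U) →+* Γ(Z, V) :=
  (Z.presheaf.map (homOfLE h).op).hom

theorem rs_rs {U V W : Z.Opens} (h : V ≤ U) (h' : W ≤ V) (x : Γ(Z, U)) :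
    rs h' (rs h x) = rs (h'.trans h) x := by
  show (Z.presheaf.map (homOfLE h).op ≫ Z.presheaf.map (homOfLE h').op).hom x = _
  rw [← Functor.map_comp]
  rfl

theorem rs_self {U : Z.Opens} (h : U ≤ U) (x : Γ(Z, U)) : rs h x = x := by
  show (Z.presheaf.map (𝟙 _)).hom x = x
  rw [CategoryTheory.Functor.map_id]
  rfl

theorem app_rs {U V : Z.Opens} (h : V ≤ U) (x : Γ(Z, U)) :
    t.app V (rs h x) = X.presheaf.map ((Opens.map t.base).map (homOfLE h)).op (t.app U x) := by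
  show (Z.presheaf.map (homOfLE h).op ≫ t.app V).hom x = _
  rw [t.naturality]
  rfl

/-- The ideal of sections killed on the closed subscheme. -/
noncomputable abbrev K (U : Z.Opens) : Ideal Γ(Z, U) := RingHom.ker (t.app U).hom

theorem rs_mem_K {U V : Z.Opens} (h : V ≤ U) {x : Γ(Z, U)} (hx : x ∈ K t U) : rs h x ∈ K t V := by
  rw [RingHom.mem_ker] at hx ⊢
  show t.app V (rs h x) = 0
  rw [app_rs, hx, map_zero]

variable [IsClosedImmersion t]

theorem isNilpotent_of_mem_K (ht : Function.Surjective t) {U : Z.Opens} (hU : IsAffineOpen U)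
    {x : Γ(Z, U)} (hx : x ∈ K t U) : IsNilpotent x := by
  rw [Scheme.isNilpotent_iff_basicOpen_eq_bot_of_isCompact hU.isCompact]
  have h : t ⁻¹ᵁ Z.basicOpen x = ⊥ := by
    rw [Scheme.preimage_basicOpen, RingHom.mem_ker.1 hx, Scheme.basicOpen_zero]
  refine Opens.ext (Set.eq_empty_of_forall_notMem fun z hz => ?_)
  obtain ⟨y, rfl⟩ := ht z
  exact (h.le hz : y ∈ (⊥ : X.Opens))

theorem exists_pow_eq {U V : Z.Opens} (hU : IsAffineOpen U) (f : Γ(Z, U)) (hV : V = Z.basicOpen f)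
    (h : V ≤ U) (x : Γ(Z, V)) : ∃ (n : ℕ) (y : Γ(Z, U)), rs h y = rs h f ^ n * x := by
  letI := (rs h).toAlgebra
  haveI : IsLocalization.Away f Γ(Z, V) := hU.isLocalization_of_eq_basicOpen f (homOfLE h) hV
  obtain ⟨n, y, hy⟩ := IsLocalization.Away.surj f x
  exact ⟨n, y, hy.symm.trans (mul_comm _ _)⟩

theorem mem_of_rs_mem {U V : Z.Opens} (hU : IsAffineOpen U) (f : Γ(Z, U)) (hV : V = Z.basicOpen f)
    (h : V ≤ U) (E : Ideal Γ(Z, U)) (x : Γ(Z, U)) (hx : rs h x ∈ E.map (rs h)) :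
    ∃ n : ℕ, f ^ n * x ∈ E := by
  letI := (rs h).toAlgebra
  haveI : IsLocalization.Away f Γ(Z, V) := hU.isLocalization_of_eq_basicOpen f (homOfLE h) hV
  obtain ⟨_, ⟨n, rfl⟩, hn⟩ := (IsLocalization.algebraMap_mem_map_algebraMap_iff
    (Submonoid.powers f) Γ(Z, V) E x).1 hx
  exact ⟨n, hn⟩

theorem isUnit_rs {U V : Z.Opens} (f : Γ(Z, U)) (hV : V = Z.basicOpen f) (h : V ≤ U) :
    IsUnit (rs h f) := by
  subst hV
  exact RingedSpace.isUnit_res_basicOpen Z.toRingedSpace f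

theorem K_exists_pow_eq {U V : Z.Opens} (hU : IsAffineOpen U) (f : Γ(Z, U)) (hV : V = Z.basicOpen f)
    (h : V ≤ U) {x : Γ(Z, V)} (hx : x ∈ K t V) :
    ∃ (n : ℕ) (y : Γ(Z, U)), y ∈ K t U ∧ rs h y = rs h f ^ n * x := by
  obtain ⟨n, y, hy⟩ := exists_pow_eq hU f hV h x
  have h0 : t.app V (rs h y) = 0 := by
    rw [hy, map_mul, RingHom.mem_ker.1 hx, mul_zero]
  have hb : X.basicOpen (t.app U f) = t ⁻¹ᵁ V := by rw [hV, Scheme.preimage_basicOpen]
  have hcomp : IsCompact (t ⁻¹ᵁ U : Set X) := (hU.preimage t).isCompact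
  obtain ⟨m, hm⟩ := exists_pow_mul_eq_zero_of_res_basicOpen_eq_zero_of_isCompact X hcomp
    (t.app U y) (t.app U f) (by
      rw [app_rs] at h0
      have h1 := congrArg (X.presheaf.map (homOfLE hb.le).op) h0
      rw [map_zero] at h1
      rw [← h1, ← CategoryTheory.comp_apply, ← Functor.map_comp]
      rfl)
  refine ⟨m + n, f ^ m * y, ?_, ?_⟩
  · rw [RingHom.mem_ker, map_mul, map_pow]; exact hm
  · rw [map_mul, map_pow, hy, pow_add, mul_assoc]

theorem exists_ge {U V : Z.Opens} (f : Γ(Z, U)) (h : V ≤ U) {n N : ℕ} (hN : n ≤ N)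
    {x : Γ(Z, V)} {y : Γ(Z, U)} (hy : rs h y = rs h f ^ n * x) :
    rs h (f ^ (N - n) * y) = rs h f ^ N * x := by
  rw [map_mul, map_pow, hy, ← mul_assoc, ← pow_add, Nat.sub_add_cancel hN]

end Groth.Agent.ThickAffine
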